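import Groth.Agent.H28Vert.Numerical
import Groth.Agent.H29CurveDual.SingularVanish

/-!
# Integral proper curves of arithmetic genus one: constants and global generation
-/

set_option autoImplicit false
set_option linter.style.haveILetI false
set_option backward.isDefEq.respectTransparency.types false
universe u

open CategoryTheory CategoryTheory.Limits AlgebraicGeometry Opposite TopologicalSpace

namespace Groth.Agent.H29GenusOne

variable {k : Type u} [Field k] {X : Scheme.{u}} [X.Over (Spec (CommRingCat.of k))]
  [IsProper (X ↘ Spec (CommRingCat.of k))] [IsIntegral X]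

/-- The dimension of the constants divides the dimension of all cohomology. -/
theorem h0_dvd_finrank (G : X.Modules) (i : ℕ) :
    Module.finrank k (Coh.HH X (Coh.structureModule X) 0) ∣ Module.finrank k (Coh.HH X G i) := by
  letI : Field Γ(X, ⊤) := (isField_of_universallyClosed k (X ↘ Spec (CommRingCat.of k))).toField
  letI : Algebra k Γ(X, ⊤) := (Coh.toGlobal (X ↘ Spec (CommRingCat.of k))).toAlgebra
  haveI : IsScalarTower k Γ(X, ⊤) (Coh.HH X G i) := IsScalarTower.of_algebraMap_smul fun _ _ => rfl
  let e : Coh.HH X (Coh.structureModule X) 0 ≃+ Γ(X, ⊤) := H10Coh.HH0Equiv (Coh.structureModule X)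
  have hlin : ∀ (r : k) x, e (r • x) = r • e x := fun r x =>
    (H10Coh.HH0Equiv_smul (Coh.structureModule X) (Coh.toGlobal (X ↘ Spec (CommRingCat.of k)) r) x).trans rfl
  have h1 : Module.finrank k (Coh.HH X (Coh.structureModule X) 0) = Module.finrank k Γ(X, ⊤) :=
    LinearEquiv.finrank_eq ({ e with map_smul' := hlin } : Coh.HH X (Coh.structureModule X) 0 ≃ₗ[k] Γ(X, ⊤))
  rw [h1, ← Module.finrank_mul_finrank k Γ(X, ⊤) (Coh.HH X G i)]
  exact dvd_mul_right _ _

/-- An integral proper curve with one-dimensional `H¹(O)` has only the base field as constants. -/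
theorem h0_eq_one_of_genus_one (hg : Curv2.genus k X = 1) :
    Module.finrank k (Coh.HH X (Coh.structureModule X) 0) = 1 :=
  Nat.dvd_one.1 (hg ▸ h0_dvd_finrank (k := k) (Coh.structureModule X) 1)

/-- On an integral genus one curve degree at least two gives global generation. -/
theorem isGloballyGenerated_of_two_le_deg (hdim : topologicalKrullDim X ≤ 1) (hg : Curv2.genus k X = 1)
    {L : X.Modules} (hL : PicF.IsInvertible L) (hdeg : 2 ≤ Curv2.deg k X L 1) :
    Curv2.IsGloballyGenerated L :=
  H29CurveDual.isGloballyGenerated_of_deg_ge (k := k) hdim (h0_eq_one_of_genus_one hg) hL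
    (by rw [hg]; simpa using hdeg)

end Groth.Agent.H29GenusOne
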