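import Groth.Agent.H29GenusOne.EvalKernel
import Groth.Agent.H29RR.Invert
import Mathlib.RingTheory.Int.Basic

/-!
# Existence of semistable bundles, and coprimality for stable ones, on curves of genus one
-/

set_option autoImplicit false
set_option linter.style.haveILetI false
set_option linter.unusedSectionVars false
set_option maxHeartbeats 1600000
universe u

open CategoryTheory CategoryTheory.Limits AlgebraicGeometry TopologicalSpace

namespace Groth.Agent.H29GenusOne

open Groth.Agent.H29RR

attribute [local instance 10000] H10Coh.hasSheafifyAb H10Coh.hasWeakSheafifyAb H10Coh.hasExtAb H10Coh.enoughInjAb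

variable {k : Type u} [Field k] {X : Scheme.{u}} [X.Over (Spec (CommRingCat.of k))]
  [IsProper (X ↘ Spec (CommRingCat.of k))] [IsIntegral X] [Smooth (X ↘ Spec (CommRingCat.of k))]

/-- Subbundles of free modules have degree at most zero. -/
theorem deg_le_zero_of_free (hdim : topologicalKrullDim X ≤ 1) :
    ∀ (m : ℕ) (G : X.Modules) (s : ℕ) (l : G ⟶ FlatMod.freeMod X m), Mono l →
      FlatMod.IsFinLocFreeOfRank s G → Curv2.deg k X G s ≤ 0 := by
  haveI := isNoetherian_of_proper (k := k) (X := X)
  intro m
  induction m with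
  | zero =>
    intro G s l hl hG
    haveI := hl
    have := H25Par.rank_le_of_mono (genericPoint X) hG (H28RR.LazMuk.rank_freeMod (X := X) 0) l
    obtain rfl : s = 0 := by omega
    rw [deg_eq_zero_of_rank_zero (k := k) hG]
  | succ m ih =>
    intro G s l hl hG
    haveI := hl
    let e := H22Alg.KModel.freeSucc (X := X) m
    let φ : G ⟶ Coh.structureModule X := l ≫ e.hom ≫ biprod.fst
    have hO := rank_one_of_isInvertible (H11Ample.isInvertible_structureModule (X := X))
    obtain ⟨a, r, hK, hI, har, hr1, -, -, hd⟩ := exists_image_data (k := k) hdim hG hO φ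
    have hI0 : Curv2.deg k X (Abelian.image φ) r ≤ 0 := by
      rcases Nat.eq_zero_or_pos r with h | h
      · subst h
        rw [deg_eq_zero_of_rank_zero (k := k) hI]
      · obtain rfl : r = 1 := by omega
        have he := H25Par.euler_le_of_mono (k := k) hdim hI hO (Abelian.image.ι φ)
        simp only [Curv2.deg]
        push_cast
        omega
    let ψ : kernel φ ⟶ FlatMod.freeMod X m := kernel.ι φ ≫ l ≫ e.hom ≫ biprod.snd
    haveI : Mono ψ := Preadditive.mono_of_cancel_zero _ fun {Z} x hx => by
      have h : x ≫ kernel.ι φ ≫ l ≫ e.hom = 0 := by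
        refine biprod.hom_ext _ _ ?_ ?_
        · have := congrArg (x ≫ ·) (kernel.condition φ)
          simpa [φ, Category.assoc] using this
        · simpa [ψ, Category.assoc] using hx
      rw [← cancel_mono (kernel.ι φ ≫ l ≫ e.hom), h, zero_comp]
    have := ih (kernel φ) a ψ inferInstance hK
    omega

/-- Free modules are semistable. -/
theorem semistable_free [GeometricallyConnected (X ↘ Spec (CommRingCat.of k))]
    (hdim : topologicalKrullDim X ≤ 1) (r : ℕ) : SemistableBundle k X (FlatMod.freeMod X r) r :=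
  fun G s l hl hs hG => by
    rw [deg_freeMod (k := k), zero_mul]
    exact mul_nonpos_of_nonpos_of_nonneg (deg_le_zero_of_free (k := k) hdim r G s l hl hG) (Int.natCast_nonneg r)

include k in
/-- Stable bundles are semistable. -/
theorem semistable_of_stable (hdim : topologicalKrullDim X ≤ 1) {E : X.Modules} {n : ℕ}
    (hE : FlatMod.IsFinLocFreeOfRank n E) (hst : StableBundle k X E n) : SemistableBundle k X E n := by
  haveI := isNoetherian_of_proper (k := k) (X := X)
  intro G s l hl hs hG
  haveI := hl
  have hsn := H25Par.rank_le_of_mono (genericPoint X) hG hE l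
  rcases Nat.lt_or_ge s n with h | h
  · exact (hst G s l hl hs h hG).le
  · obtain rfl : s = n := by omega
    have he := H25Par.euler_le_of_mono (k := k) hdim hG hE l
    refine mul_le_mul_of_nonneg_right ?_ (Int.natCast_nonneg s)
    simp only [Curv2.deg]
    omega

variable [IsAlgClosed k] [GeometricallyConnected (X ↘ Spec (CommRingCat.of k))]

/-- Semistable bundles of every rank and degree exist. -/
theorem exists_semistable (hdim : topologicalKrullDim X = 1) (hg : Curv2.genus k X = 1) :
    ∀ (r : ℕ), 0 < r → ∀ d : ℤ, ∃ F : X.Modules, FlatMod.IsFinLocFreeOfRank r F ∧ Curv2.deg k X F r = d ∧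
      SemistableBundle k X F r := by
  haveI := isNoetherian_of_proper (k := k) (X := X)
  intro r
  induction r using Nat.strong_induction_on with
  | _ r ih =>
  intro hr d
  have hrZ : (0 : ℤ) < r := by exact_mod_cast hr
  have hde := Int.emod_add_mul_ediv d (r : ℤ)
  rcases eq_or_ne (d % (r : ℤ)) 0 with h0 | h0
  · obtain ⟨M, hM, hMd⟩ := exists_deg (k := k) hdim (d / (r : ℤ))
    have hF := H28RR.LazMuk.rank_freeMod (X := X) r
    refine ⟨_, rank_tensor hF hM, ?_, semistable_tensor (k := k) hdim.le hF (semistable_free (k := k) hdim.le r) hM⟩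
    rw [deg_tensor_bundle (k := k) hdim.le hF hM, deg_freeMod (k := k), hMd]
    omega
  · have he0 : 0 < d % (r : ℤ) := lt_of_le_of_ne (Int.emod_nonneg d (by omega)) (Ne.symm h0)
    have he1 := Int.emod_lt_of_pos d hrZ
    obtain ⟨e, he⟩ := Int.eq_ofNat_of_zero_le he0.le
    rw [he] at he0 he1 hde
    obtain ⟨F, hF, hFd, hFss⟩ := ih (r - e) (by omega) (by omega) ((2 * r - e : ℕ) : ℤ)
    obtain ⟨M₀, hM₀, hM₀d, hM₀ss, -⟩ := exists_syzygy (k := k) hdim hg (R := r - e) (D := 2 * r - e) (by omega)
      (by omega) hF hFss hFd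
    rw [show 2 * r - e - (r - e) = r by omega] at hM₀ hM₀d hM₀ss
    obtain ⟨M, hM, hMd⟩ := exists_deg (k := k) hdim (d / (r : ℤ) + 2)
    refine ⟨_, rank_tensor hM₀ hM, ?_, semistable_tensor (k := k) hdim.le hM₀ hM₀ss hM⟩
    rw [deg_tensor_bundle (k := k) hdim.le hM₀ hM, hM₀d, hMd, mul_add]
    omega

/-- A stable bundle of degree equal to its rank is a line bundle. -/
theorem rank_eq_one_of_stable (hdim : topologicalKrullDim X = 1) (hg : Curv2.genus k X = 1) {F : X.Modules}
    {r : ℕ} (hr : 0 < r) (hF : FlatMod.IsFinLocFreeOfRank r F) (hst : StableBundle k X F r)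
    (hd : Curv2.deg k X F r = r) : r = 1 := by
  haveI := isNoetherian_of_proper (k := k) (X := X)
  by_contra hr1
  have hss := semistable_of_stable (k := k) hdim.le hF hst
  have hrZ : (0 : ℤ) < r := by exact_mod_cast hr
  have hO := rank_one_of_isInvertible (H11Ample.isInvertible_structureModule (X := X))
  have h0 := h0_of_semistable (k := k) hdim hg hF hss (by rw [hd]; exact hrZ)
  obtain ⟨ev, hev⟩ := exists_eval (k := k) hdim (isCoh_of_rank hF) (D := r) (by omega)
  have hD := H28RR.LazMuk.rank_freeMod (X := X) r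
  haveI : Epi ev := by
    refine epi_of_sections_of_hom (k := k) hdim hg hF hss (by rw [hd]; exact hrZ) (isCoh_of_rank hD).1 ev hev.2
      fun x hx φ => ?_
    obtain ⟨hP, hPd, -, hPst⟩ := rank_deg_ptTwist (k := k) hdim hF hx
    by_contra hne
    obtain ⟨a, s, hK, hI, has, hs1, hs0, -, hdeg⟩ := exists_image_data (k := k) hdim.le hP hO φ
    obtain rfl : s = 1 := by have := hs0 hne; omega
    have he := H25Par.euler_le_of_mono (k := k) hdim.le hI hO (Abelian.image.ι φ)
    have hI0 : Curv2.deg k X (Abelian.image φ) 1 ≤ 0 := by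
      simp only [Curv2.deg]
      push_cast
      omega
    have h1 := hPst hst (kernel φ) a (kernel.ι φ) inferInstance (by omega) (by omega) hK
    rw [hPd, hd, sub_self, zero_mul] at h1
    rw [hPd, hd, sub_self] at hdeg
    have : Curv2.deg k X (kernel φ) a < 0 := neg_of_mul_neg_left h1 hrZ.le
    omega
  have hS : (ShortComplex.mk (kernel.ι ev) ev (kernel.condition ev)).ShortExact :=
    { exact := ShortComplex.exact_kernel _ }
  obtain ⟨m, hM⟩ := H25Par.exists_rank k hdim.le
    (H10Coh.isCoh_kernel ev (isCoh_of_rank hD) (isCoh_of_rank hF).1)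
    (H25Euler.isTorsionFree_of_mono (kernel.ι ev) (H25Par.isTorsionFree_of_locFree (locFree_of_rank hD)))
  obtain ⟨hm, hMd⟩ := deg_add_of_shortExact (k := k) hS hM hD hF
  obtain rfl : m = 0 := by omega
  simp only [deg_freeMod (k := k), deg_eq_zero_of_rank_zero (k := k) hM, hd] at hMd
  omega

/-- Stable bundles have coprime rank and degree. -/
theorem gcd_eq_one_of_stable (hdim : topologicalKrullDim X = 1) (hg : Curv2.genus k X = 1) :
    ∀ (r : ℕ), 0 < r → ∀ F : X.Modules, FlatMod.IsFinLocFreeOfRank r F → StableBundle k X F r →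
      Int.gcd (Curv2.deg k X F r) (r : ℤ) = 1 := by
  haveI := isNoetherian_of_proper (k := k) (X := X)
  intro r
  induction r using Nat.strong_induction_on with
  | _ r ih =>
  intro hr F hF hst
  have hrZ : (0 : ℤ) < r := by exact_mod_cast hr
  obtain ⟨d, hd⟩ : ∃ d, Curv2.deg k X F r = d := ⟨_, rfl⟩
  rw [hd]
  obtain ⟨e, he⟩ := Int.eq_ofNat_of_zero_le (Int.emod_nonneg d (b := (r : ℤ)) (by omega))
  have he1 : e < r := by have := Int.emod_lt_of_pos d hrZ; omega
  have hde := Int.emod_add_mul_ediv d (r : ℤ)
  rw [he] at hde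
  obtain ⟨N, hN, hNd⟩ := exists_deg (k := k) hdim (1 - d / (r : ℤ))
  have hF' := rank_tensor hF hN
  have hst' := stable_tensor (k := k) hdim.le hF hst hN
  have hd' : Curv2.deg k X (CohB1.tensorMod F N) r = ((r + e : ℕ) : ℤ) := by
    rw [deg_tensor_bundle (k := k) hdim.le hF hN, hd, hNd, mul_sub]
    omega
  rcases Nat.eq_zero_or_pos e with he0 | he0
  · subst he0
    obtain rfl := rank_eq_one_of_stable (k := k) hdim hg hr hF' hst' (by rw [hd']; simp)
    simp
  · obtain ⟨M, hM, hMd, -, hMst⟩ := exists_syzygy (k := k) hdim hg hr (D := r + e) (by omega) hF'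
      (semistable_of_stable (k := k) hdim.le hF' hst') hd'
    rw [show r + e - r = e by omega] at hM hMd hMst
    have h := ih e he1 he0 M hM (hMst hst')
    rw [hMd, Int.neg_gcd, Int.gcd_natCast_natCast, Nat.gcd_add_self_left] at h
    rw [← hde, Int.gcd_add_mul_left_left, Int.gcd_natCast_natCast, Nat.gcd_comm]
    exact h

end Groth.Agent.H29GenusOne
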