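import Groth.Agent.H29GenusOne.Vanishing
import Groth.Agent.H29RR.LineSub
import Groth.Agent.H15Site.Invertible
import Groth.Agent.H10Coh.SheafHom.Adj
import Groth.Agent.H17.PnExt.LocFreeExt

/-!
# Semistable bundles of slope above one are globally generated
-/

set_option autoImplicit false
set_option linter.style.haveILetI false
set_option linter.unusedSectionVars false
set_option maxHeartbeats 1600000
set_option backward.isDefEq.respectTransparency false
universe u

open CategoryTheory CategoryTheory.Limits AlgebraicGeometry TopologicalSpace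

namespace Groth.Agent.H29GenusOne

open Groth.Agent.H29RR

attribute [local instance 10000] H10Coh.hasSheafifyAb H10Coh.hasWeakSheafifyAb H10Coh.hasExtAb H10Coh.enoughInjAb
attribute [local instance] Curv2.resAlgebra

variable {k : Type u} [Field k] {X : Scheme.{u}} [X.Over (Spec (CommRingCat.of k))]
  [IsProper (X ↘ Spec (CommRingCat.of k))] [IsIntegral X]

include k in
/-- The ideal of a closed point does not generate a nonzero module there. -/
theorem not_epi_ptIncl {x : X} (hx : IsClosed ({x} : Set X)) (h1 : Module.finrank k (X.residueField x) = 1)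
    {C : X.Modules} (hC : Coh.IsCoh C) (hxC : x ∈ CohB1.support C) : ¬ Epi (ptIncl x C) := fun h => by
  haveI := isNoetherian_of_proper (k := k) (X := X)
  let I := ptIdeal x
  let T := (DCoh.tensorBi (X := X)).flip.obj C
  haveI : DCoh.HasSheafHom C := H10Coh.SheafHom.hasSheafHom C
  haveI : T.IsLeftAdjoint :=
    ⟨_, ⟨(DCoh.sheafHomAdj C).ofNatIsoLeft (H15Site.ModTensor.tLIso (O := X.sheaf) C)⟩⟩
  haveI := H10Coh.epi_toSubscheme I
  haveI hq : Epi (T.map (ClSub.toSubscheme I)) := inferInstance
  haveI : Epi (T.map (ClSub.idealModι I) ≫ (H10Coh.Tw.leftUnitIso C).hom) := h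
  haveI hι : Epi (T.map (ClSub.idealModι I)) := by
    have h2 : Epi ((T.map (ClSub.idealModι I) ≫ (H10Coh.Tw.leftUnitIso C).hom) ≫ (H10Coh.Tw.leftUnitIso C).inv) :=
      epi_comp _ _
    rw [Category.assoc, Iso.hom_inv_id, Category.comp_id] at h2
    exact h2
  have h0 : T.map (ClSub.toSubscheme I) = 0 := by
    rw [← cancel_epi (T.map (ClSub.idealModι I)), ← Functor.map_comp, comp_zero,
      show ClSub.idealModι I ≫ ClSub.toSubscheme I = 0 from kernel.condition _, Functor.map_zero]
  have hz : IsZero (CohB1.tensorMod (ClSub.quotMod I) C) := IsZero.of_epi_eq_zero _ h0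
  have hQ : Coh.IsCoh (ClSub.quotMod I) :=
    H24FSch.isCoh_pushforward_of_isClosedImmersion I.subschemeι (H10Coh.isCoh_structureModule' _)
  have hmem : x ∈ CohB1.support (CohB1.tensorMod (ClSub.quotMod I) C) := by
    rw [H17.SuppTensor.support_tensor _ _ hQ.2 hC.2]
    exact ⟨mem_support_quotMod_pt hx h1, hxC⟩
  exact hmem (ModuleCat.isZero_iff_subsingleton.1 ((DerSch.stalkFunctor X x).map_isZero hz))

variable [Smooth (X ↘ Spec (CommRingCat.of k))] [GeometricallyConnected (X ↘ Spec (CommRingCat.of k))]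

/-- Sections of a semistable bundle of slope above one are contained in no proper submodule with torsion quotient
which contains the sections vanishing at a point. -/
theorem isIso_of_sections (hdim : topologicalKrullDim X = 1) (hg : Curv2.genus k X = 1) {F P J : X.Modules}
    {R ρ : ℕ} (hF : FlatMod.IsFinLocFreeOfRank R F) (hFss : SemistableBundle k X F R)
    (hd : 0 < Curv2.deg k X F R) (hP : FlatMod.IsFinLocFreeOfRank R P)
    (hPhom : ∀ φ : P ⟶ Coh.structureModule X, φ = 0) (hJ : FlatMod.IsFinLocFreeOfRank ρ J) (i : J ⟶ F) [Mono i] (j : P ⟶ J) [Mono j]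
    (hsur : Function.Surjective (Canon.HHlin k i 0)) : IsIso i := by
  haveI := isNoetherian_of_proper (k := k) (X := X)
  obtain rfl : ρ = R := le_antisymm (H25Par.rank_le_of_mono (genericPoint X) hJ hF i)
    (H25Par.rank_le_of_mono (genericPoint X) hP hJ j)
  have hle := H25Par.euler_le_of_mono (k := k) hdim.le hJ hF i
  have hO := rank_one_of_isInvertible (H11Ample.isInvertible_structureModule (X := X))
  have hJhom : ∀ φ : J ⟶ Coh.structureModule X, φ = 0 := fun φ => by
    obtain ⟨a, r, hK, -, har, -, hr0, -, -⟩ := exists_image_data (k := k) hdim.le hJ hO φ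
    by_contra hne
    have hr := hr0 hne
    have h0 := hPhom (j ≫ φ)
    haveI : Mono (kernel.lift φ j h0) := mono_of_mono_fac (kernel.lift_ι φ j h0)
    have := H25Par.rank_le_of_mono (genericPoint X) hP hK (kernel.lift φ j h0)
    omega
  have h1 := h1_eq_zero_of_hom (k := k) hdim hg (isCoh_of_rank hJ) hJhom
  have hJ0 := euler_eq_deg (k := k) hdim hg J ρ
  have hF0 := h0_of_semistable (k := k) hdim hg hF hFss hd
  haveI := H10Coh.finite_HH_proper k X J (isCoh_of_rank hJ) 0
  have hb : Function.Bijective (Canon.HHlin k i 0) := ⟨hhlin_zero_injective (k := k) i, hsur⟩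
  have h00 := (LinearEquiv.ofBijective _ hb).finrank_eq
  exact isIso_of_deg_eq (k := k) hdim.le hJ hF i (by omega)

/-- Tensoring with an invertible module preserves stability. -/
theorem stable_tensor (hdim : topologicalKrullDim X ≤ 1) {E M : X.Modules} {n : ℕ}
    (hE : FlatMod.IsFinLocFreeOfRank n E) (hss : StableBundle k X E n) (hM : PicF.IsInvertible M) :
    StableBundle k X (CohB1.tensorMod E M) n := by
  haveI := isNoetherian_of_proper (k := k) (X := X)
  intro G s i hi hs hsn hG
  haveI := hi
  obtain ⟨N, hN, ⟨e⟩⟩ := H11Sym.exists_inverse hM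
  let T := (DCoh.tensorBi (X := X)).flip.obj N
  haveI : Mono (T.map i) := by
    have hS : (ShortComplex.mk i (cokernel.π i) (cokernel.condition i)).ShortExact :=
      { exact := ShortComplex.exact_cokernel _ }
    exact (H16Derived.KFlat.Stalk.isFlatObj_of_isFlat
      (H16Derived.KFlat.Stalk.isFlat_of_isFinLocFree (H28Pinch.isFinLocFree_of_isInvertible hN)) _ hS).mono_f
  let b : CohB1.tensorMod (CohB1.tensorMod E M) N ≅ E :=
    H10Coh.Tw.assoc E M N ≪≫ PicGrp.tensorModIso (Iso.refl E) (H10Coh.Tw.commIso M N ≪≫ e) ≪≫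
      H10Coh.Tw.rightUnitIso E
  have h := hss (CohB1.tensorMod G N) s (T.map i ≫ b.hom) (mono_comp (T.map i) b.hom) hs hsn (rank_tensor hG hN)
  have hd := deg_tensor (k := k) hdim hN hM
  rw [deg_congr (k := k) e, deg_structureModule] at hd
  rw [deg_tensor_bundle (k := k) hdim hG hN] at h
  rw [deg_tensor_bundle (k := k) hdim hE hM]
  have hN' : Curv2.deg k X N 1 = -Curv2.deg k X M 1 := by omega
  rw [hN'] at h
  nlinarith

/-- The twist of a bundle down by a closed point. -/
theorem rank_deg_ptTwist [IsAlgClosed k] (hdim : topologicalKrullDim X = 1) {F : X.Modules} {R : ℕ}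
    (hF : FlatMod.IsFinLocFreeOfRank R F) {x : X} (hx : IsClosed ({x} : Set X)) :
    FlatMod.IsFinLocFreeOfRank R (CohB1.tensorMod (ClSub.idealMod (ptIdeal x)) F) ∧
      Curv2.deg k X (CohB1.tensorMod (ClSub.idealMod (ptIdeal x)) F) R = Curv2.deg k X F R - R ∧
      (SemistableBundle k X F R → SemistableBundle k X (CohB1.tensorMod (ClSub.idealMod (ptIdeal x)) F) R) ∧
      (StableBundle k X F R → StableBundle k X (CohB1.tensorMod (ClSub.idealMod (ptIdeal x)) F) R) := by
  haveI := isNoetherian_of_proper (k := k) (X := X)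
  have hres := finrank_residue_eq_one (k := k) hx
  haveI : IsRegularLocalRing (X.presheaf.stalk x) :=
    H19Grp.isRegularLocalRing_stalk_of_smooth (X ↘ Spec (CommRingCat.of k)) x
  have hI := isInvertible_pt_of_regular (k := k) hdim hx
  have hIc := H16Derived.KFlat.Stalk.isCoh_of_isFinLocFree (H28Pinch.isFinLocFree_of_isInvertible hI)
  let P := CohB1.tensorMod (ClSub.idealMod (ptIdeal x)) F
  let eP : P ≅ CohB1.tensorMod F (ClSub.idealMod (ptIdeal x)) := H10Coh.Tw.commIso _ _
  have hP : FlatMod.IsFinLocFreeOfRank R P := fun y => by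
    obtain ⟨U, hyU, ⟨e⟩⟩ := rank_tensor hF hI y
    exact ⟨U, hyU, ⟨(Scheme.Modules.restrictFunctor U.ι).mapIso eP ≪≫ e⟩⟩
  have hdI : Curv2.deg k X (ClSub.idealMod (ptIdeal x)) 1 = -1 := by
    have h := (twist_point (k := k) hx (H11Ample.isInvertible_structureModule (X := X)) hIc).2.2
    rw [H25Euler.euler_congr (H10Coh.Tw.rightUnitIso (ClSub.idealMod (ptIdeal x))), hres] at h
    simp only [Curv2.deg]
    push_cast at h ⊢
    omega
  have hPd : Curv2.deg k X P R = Curv2.deg k X F R - R := by
    have h := deg_tensor_bundle (k := k) hdim.le hF hI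
    rw [hdI] at h
    simp only [Curv2.deg, H25Euler.euler_congr eP] at h ⊢
    linarith
  refine ⟨hP, hPd, fun hFss G s l hl hs hG => ?_, fun hFst G s l hl hs hsR hG => ?_⟩
  · haveI := hl
    have h := semistable_tensor (k := k) hdim.le hF hFss hI G s (l ≫ eP.hom) inferInstance hs hG
    simp only [Curv2.deg, H25Euler.euler_congr
      (show CohB1.tensorMod (ClSub.idealMod (ptIdeal x)) F ≅ CohB1.tensorMod F _ from eP)] at h ⊢
    exact h
  · haveI := hl
    have h := stable_tensor (k := k) hdim.le hF hFst hI G s (l ≫ eP.hom) inferInstance hs hsR hG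
    simp only [Curv2.deg, H25Euler.euler_congr
      (show CohB1.tensorMod (ClSub.idealMod (ptIdeal x)) F ≅ CohB1.tensorMod F _ from eP)] at h ⊢
    exact h


/-- Sections spanning all sections generate, if no point twist has functionals. -/
theorem epi_of_sections_of_hom [IsAlgClosed k] (hdim : topologicalKrullDim X = 1) (hg : Curv2.genus k X = 1)
    {F : X.Modules} {R : ℕ} (hF : FlatMod.IsFinLocFreeOfRank R F) (hFss : SemistableBundle k X F R)
    (hd : 0 < Curv2.deg k X F R) {A : X.Modules} (hA : Coh.IsQCoh A) (ev : A ⟶ F)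
    (hsur : Function.Surjective (Canon.HHlin k ev 0))
    (hPhom : ∀ x : X, IsClosed ({x} : Set X) →
      ∀ φ : CohB1.tensorMod (ClSub.idealMod (ptIdeal x)) F ⟶ Coh.structureModule X, φ = 0) : Epi ev := by
  haveI := isNoetherian_of_proper (k := k) (X := X)
  refine Abelian.epi_of_cokernel_π_eq_zero _ (by_contra fun hne => ?_)
  have hFc := isCoh_of_rank hF
  have hCc := H10Coh.isCoh_cokernel ev hA hFc
  have hne' : (CohB1.support (cokernel ev)).Nonempty := by
    by_contra hemp
    refine hne ((H25Par.isZero_of_stalks _ fun y => ?_).eq_of_tgt _ _)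
    exact not_not.1 fun hy => hemp ⟨y, hy⟩
  obtain ⟨x, hxC, hx⟩ := IsClosed.exists_closed_singleton (H10Coh.isClosed_support _ hCc.2) hne'
  have hres := finrank_residue_eq_one (k := k) hx
  haveI : IsRegularLocalRing (X.presheaf.stalk x) :=
    H19Grp.isRegularLocalRing_stalk_of_smooth (X ↘ Spec (CommRingCat.of k)) x
  have hI := isInvertible_pt_of_regular (k := k) hdim hx
  have hIc := H16Derived.KFlat.Stalk.isCoh_of_isFinLocFree (H28Pinch.isFinLocFree_of_isInvertible hI)
  let P := CohB1.tensorMod (ClSub.idealMod (ptIdeal x)) F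
  have hP : FlatMod.IsFinLocFreeOfRank R P := (rank_deg_ptTwist (k := k) hdim hF hx).1
  let g : P ⟶ cokernel ev := ptIncl x F ≫ cokernel.π ev
  let q : F ⟶ cokernel g := cokernel.π ev ≫ cokernel.π g
  have hC'c : Coh.IsCoh (cokernel g) :=
    H10Coh.isCoh_cokernel g (isCoh_of_rank hP).1 hCc
  have hJc : Coh.IsCoh (kernel q) := H10Coh.isCoh_kernel q hFc hC'c.1
  obtain ⟨ρ, hJ⟩ := H25Par.exists_rank k hdim.le hJc
    (H25Euler.isTorsionFree_of_mono (kernel.ι q) (H25Par.isTorsionFree_of_locFree (locFree_of_rank hF)))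
  haveI := mono_ptIncl (x := x) hF
  have hj : ptIncl x F ≫ q = 0 := by rw [← Category.assoc]; exact cokernel.condition g
  haveI : Mono (kernel.lift q (ptIncl x F) hj) := mono_of_mono_fac (kernel.lift_ι q (ptIncl x F) hj)
  have hsur' : Function.Surjective (Canon.HHlin k (kernel.ι q) 0) := fun v => by
    obtain ⟨a, rfl⟩ := hsur v
    refine ⟨Canon.HHlin k (kernel.lift q ev (by rw [← Category.assoc, cokernel.condition, zero_comp])) 0 a, ?_⟩
    rw [← hhlin_comp, kernel.lift_ι]
  haveI := isIso_of_sections (k := k) hdim hg hF hFss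
    hd hP (hPhom x hx) hJ
    (kernel.ι q) (kernel.lift q (ptIncl x F) hj) hsur'
  have hq0 : q = 0 := by rw [← cancel_epi (kernel.ι q), kernel.condition, comp_zero]
  haveI : Epi g := Abelian.epi_of_cokernel_π_eq_zero _ (by
    rw [← cancel_epi (cokernel.π ev), comp_zero]; exact hq0)
  have hg' : g = ((DCoh.tensorBi (X := X)).obj (ClSub.idealMod (ptIdeal x))).map (cokernel.π ev) ≫
      ptIncl x (cokernel ev) := (ptIncl_natural x (cokernel.π ev)).symm
  haveI : Epi (((DCoh.tensorBi (X := X)).obj (ClSub.idealMod (ptIdeal x))).map (cokernel.π ev) ≫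
      ptIncl x (cokernel ev)) := hg' ▸ (inferInstance : Epi g)
  exact not_epi_ptIncl hx hres hCc hxC (epi_of_epi
    (((DCoh.tensorBi (X := X)).obj (ClSub.idealMod (ptIdeal x))).map (cokernel.π ev)) _)


/-- A family of sections spanning all sections of a semistable bundle of slope above one generates it. -/
theorem epi_of_sections [IsAlgClosed k] (hdim : topologicalKrullDim X = 1) (hg : Curv2.genus k X = 1)
    {F : X.Modules} {R : ℕ} (hF : FlatMod.IsFinLocFreeOfRank R F) (hFss : SemistableBundle k X F R)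
    (hd : (R : ℤ) < Curv2.deg k X F R) {A : X.Modules} (hA : Coh.IsQCoh A) (ev : A ⟶ F)
    (hsur : Function.Surjective (Canon.HHlin k ev 0)) : Epi ev := by
  refine epi_of_sections_of_hom (k := k) hdim hg hF hFss (lt_of_le_of_lt (Int.natCast_nonneg R) hd) hA ev hsur
    fun x hx => ?_
  obtain ⟨hP, hPd, hPss, -⟩ := rank_deg_ptTwist (k := k) hdim hF hx
  exact hom_unit_eq_zero (k := k) hdim.le hP (hPss hFss) (by omega)

end Groth.Agent.H29GenusOne
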