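import Groth.Agent.H29GenusOne.EvalEpi
import Groth.Agent.H29Pencil.Trick

/-!
# Kernels of evaluation maps on curves of genus one
-/

set_option autoImplicit false
set_option linter.style.haveILetI false
set_option linter.unusedSectionVars false
set_option maxHeartbeats 1600000
universe u

open CategoryTheory CategoryTheory.Limits AlgebraicGeometry TopologicalSpace

namespace Groth.Agent.H29GenusOne

open Groth.Agent.H29RR

attribute [local instance 10000] H10Coh.hasSheafifyAb H10Coh.hasWeakSheafifyAb H10Coh.hasExtAb H10Coh.enoughInjAb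

variable {k : Type u} [Field k] {X : Scheme.{u}} [X.Over (Spec (CommRingCat.of k))]
  [IsProper (X ↘ Spec (CommRingCat.of k))] [IsIntegral X] [Smooth (X ↘ Spec (CommRingCat.of k))]
  [GeometricallyConnected (X ↘ Spec (CommRingCat.of k))]

/-- Evaluation on a basis of the sections is bijective on sections. -/
theorem exists_eval (hdim : topologicalKrullDim X = 1) {F : X.Modules} (hFc : Coh.IsCoh F) {D : ℕ}
    (hD : Module.finrank k (Coh.HH X F 0) = D) :
    ∃ ev : FlatMod.freeMod X D ⟶ F, Function.Bijective (Canon.HHlin k ev 0) := by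
  haveI := H10Coh.finite_HH_proper k X F hFc 0
  let b := Module.finBasisOfFinrankEq k (Coh.HH X F 0) hD
  let ev : FlatMod.freeMod X D ⟶ F := Sigma.desc fun i => H11Tilde.homOfGlobal F (sec F (b i))
  let e0 : Coh.HH X (Coh.structureModule X) 0 :=
    (sec _).symm (show Γ(Coh.structureModule X, ⊤) from (1 : Γ(X, ⊤)))
  have he : ∀ i, Canon.HHlin k ev 0 (Canon.HHlin k (Sigma.ι (fun _ : Fin D => Coh.structureModule X) i) 0 e0) = b i :=
    fun i => by
      rw [← hhlin_comp, Sigma.ι_desc]
      refine (sec F).injective ?_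
      rw [sec_natural, AddEquiv.apply_symm_apply]
      exact H29Pencil.homOfGlobal_app_one F (sec F (b i))
  have he0 : e0 ≠ 0 := fun h => by
    have h1 := congrArg (sec (Coh.structureModule X)) h
    rw [AddEquiv.apply_symm_apply, map_zero] at h1
    haveI : Nontrivial Γ(X, ⊤) := by
      haveI : Nonempty (⊤ : X.Opens) := ⟨⟨genericPoint X, trivial⟩⟩
      infer_instance
    exact one_ne_zero (α := Γ(X, ⊤)) h1
  refine ⟨ev, ?_, fun v => ?_⟩
  · rw [injective_iff_map_eq_zero]
    intro v hv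
    choose c hc using fun i : Fin D => exists_smul_eq_of_finrank_eq_one
      (H29CurveDual.finrank_h0_structure_smooth (k := k) (X := X)) he0 (Canon.HHlin k (prj D i) 0 v)
    have hv' : v = ∑ i, c i • Canon.HHlin k (Sigma.ι (fun _ : Fin D => Coh.structureModule X) i) 0 e0 := by
      conv_lhs => rw [← hhlin_id (k := k) (FlatMod.freeMod X D) 0 v, ← sum_prj D, hhlin_sum]
      exact Finset.sum_congr rfl fun i _ => by rw [hhlin_comp, ← hc i, map_smul]
    rw [hv', map_sum] at hv
    simp only [map_smul, he] at hv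
    have hc0 := Fintype.linearIndependent_iff.1 b.linearIndependent c hv
    rw [hv']
    simp [hc0]
  · refine ⟨∑ i, b.repr v i • Canon.HHlin k (Sigma.ι (fun _ : Fin D => Coh.structureModule X) i) 0 e0, ?_⟩
    rw [map_sum]
    simp only [map_smul, he]
    exact b.sum_repr v

/-- The slope bound for the subbundles of an evaluation kernel. -/
theorem kernel_slope_bound (hdim : topologicalKrullDim X = 1) (hg : Curv2.genus k X = 1)
    {F : X.Modules} {R D : ℕ} (hR : 0 < R) (hF : FlatMod.IsFinLocFreeOfRank R F) (hFss : SemistableBundle k X F R)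
    (hFd : Curv2.deg k X F R = D) (ev : FlatMod.freeMod X D ⟶ F) (hev : Function.Injective (Canon.HHlin k ev 0))
    {G : X.Modules} {g : ℕ} (hgpos : 0 < g) (hG : FlatMod.IsFinLocFreeOfRank g G) (l : G ⟶ kernel ev) [Mono l]
    (hmax : ∀ (G' : X.Modules) (g' : ℕ) (l' : G' ⟶ kernel ev), Mono l' → 0 < g' → FlatMod.IsFinLocFreeOfRank g' G' →
      Curv2.deg k X G' g' * (g : ℤ) ≤ Curv2.deg k X G g * (g' : ℤ)) :
    Curv2.deg k X G g * ((D : ℤ) - R) ≤ -(D : ℤ) * g ∧
      (StableBundle k X F R → Curv2.deg k X G g * ((D : ℤ) - R) = -(D : ℤ) * g → (D : ℤ) = g + R) := by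
  haveI := isNoetherian_of_proper (k := k) (X := X)
  obtain ⟨hfin, hfr⟩ := finrank_hom_unit (k := k) hdim hg (isCoh_of_rank hG)
  haveI := hfin
  haveI hsubM : Subsingleton (Coh.HH X (kernel ev) 0) := ⟨fun a b => hhlin_zero_injective (k := k) (kernel.ι ev) (hev (by
    rw [← hhlin_comp, ← hhlin_comp, kernel.condition, hhlin_zero, hhlin_zero]))⟩
  haveI hsubG : Subsingleton (Coh.HH X G 0) :=
    ⟨fun a b => hhlin_zero_injective (k := k) l (Subsingleton.elim _ _)⟩
  have hq := euler_eq_deg (k := k) hdim hg G g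
  rw [Module.finrank_zero_of_subsingleton] at hq
  obtain ⟨w, e, σ, τ, hw, hστ, heσ⟩ := exists_factor_free k (l ≫ kernel.ι ev)
  haveI : Mono σ := mono_of_mono_fac hστ
  haveI : Mono e := mono_of_mono_fac heσ
  let ψ := σ ≫ ev
  have hwr : FlatMod.IsFinLocFreeOfRank w (FlatMod.freeMod X w) := H28RR.LazMuk.rank_freeMod w
  obtain ⟨g', ρ, hK, hI, hgρ, hρR, hρ0, -, hd⟩ := exists_image_data (k := k) hdim.le hwr hF ψ
  rw [deg_freeMod (k := k)] at hd
  have heψ : e ≫ ψ = 0 := by
    rw [← Category.assoc, heσ, Category.assoc, kernel.condition, comp_zero]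
  haveI : Mono (kernel.lift ψ e heψ) := mono_of_mono_fac (kernel.lift_ι ψ e heψ)
  have hgg' := H25Par.rank_le_of_mono (genericPoint X) hG hK (kernel.lift ψ e heψ)
  haveI : Mono (kernel.lift ev (kernel.ι ψ ≫ σ) ((Category.assoc _ _ _).trans (kernel.condition ψ))) :=
    mono_of_mono_fac (kernel.lift_ι ev (kernel.ι ψ ≫ σ) _)
  have h1 := hmax (kernel ψ) g' (kernel.lift ev (kernel.ι ψ ≫ σ) ((Category.assoc _ _ _).trans (kernel.condition ψ)))
    inferInstance (by omega) hK
  have hIge : -(Curv2.deg k X G g) * (g' : ℤ) ≤ Curv2.deg k X (Abelian.image ψ) ρ * (g : ℤ) := by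
    have e' : Curv2.deg k X (kernel ψ) g' = - Curv2.deg k X (Abelian.image ψ) ρ := by omega
    rw [e'] at h1
    linarith
  have hqw : (w : ℤ) ≤ -Curv2.deg k X G g := by
    rw [hfr] at hw
    omega
  have hgQ : (g' : ℤ) + ρ = w := by exact_mod_cast hgρ
  have hggZ : (g : ℤ) ≤ g' := by exact_mod_cast hgg'
  have hgpZ : (0 : ℤ) < g := by exact_mod_cast hgpos
  have hRZ : (0 : ℤ) < R := by exact_mod_cast hR
  have hwpos : (0 : ℤ) < w := by omega
  generalize hq0 : -Curv2.deg k X G g = q at *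
  have hqd : Curv2.deg k X G g = -q := by omega
  have hqpos : 0 < q := by omega
  have hρpos : 0 < ρ := by
    rcases Nat.eq_zero_or_pos ρ with h | h
    · exfalso
      subst h
      rw [deg_eq_zero_of_rank_zero (k := k) hI] at hIge
      nlinarith
    · exact h
  have hFI := hFss (Abelian.image ψ) ρ (Abelian.image.ι ψ) inferInstance hρpos hI
  rw [hFd] at hFI
  have hDn : (0 : ℤ) ≤ D := Int.natCast_nonneg D
  have c1 := mul_le_mul_of_nonneg_right hIge hRZ.le
  have c2 := mul_le_mul_of_nonneg_right hFI hgpZ.le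
  have c3 : (D : ℤ) * ρ * g ≤ (D : ℤ) * (q - g') * g := by
    have : (ρ : ℤ) ≤ q - g' := by omega
    gcongr
  have key : (g' : ℤ) * (q * R + D * g) ≤ (D : ℤ) * g * q := by linarith
  have c4 : (g : ℤ) * (q * R + D * g) ≤ (g' : ℤ) * (q * R + D * g) := by
    have : (0 : ℤ) ≤ q * R + D * g := by positivity
    gcongr
  have main : q * R + D * g ≤ (D : ℤ) * q := le_of_mul_le_mul_left (by linarith) hgpZ
  rw [hqd]
  refine ⟨by linarith, fun hst heq => ?_⟩
  have hmain : q * R + D * g = (D : ℤ) * q := by linarith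
  have h5 : (g' : ℤ) * (q * R + D * g) = (g : ℤ) * (q * R + D * g) := le_antisymm (by
    rw [hmain] at key ⊢
    linarith) c4
  have hpos' : (0 : ℤ) < q * R + D * g := by positivity
  have hgg : (g' : ℤ) = g := mul_right_cancel₀ hpos'.ne' h5
  have hρeq : ρ = R := by
    by_contra hne
    have hlt := hst (Abelian.image ψ) ρ (Abelian.image.ι ψ) inferInstance hρpos (by omega) hI
    rw [hFd] at hlt
    have c2' := mul_lt_mul_of_pos_right hlt hgpZ
    rw [hgg] at c1 c3
    nlinarith
  subst hρeq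
  rw [hgg] at c1 c3 hgQ hIge
  have hqDn : q = g + ρ := by
    have hq1 : (g : ℤ) + ρ ≤ q := by omega
    have h6 : q * ρ ≤ (D : ℤ) * ρ := le_of_mul_le_mul_right (a := (g : ℤ)) (by linarith) hgpZ
    have h7 : q ≤ D := le_of_mul_le_mul_right h6 hRZ
    nlinarith
  subst hqDn
  have h9 : ((g : ℤ) + ρ - D) * ρ = 0 := by linear_combination hmain
  rcases mul_eq_zero.1 h9 with h | h <;> omega

/-- The kernel of the evaluation map of a semistable bundle of slope above one is semistable, and stable if the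
bundle is. -/
theorem exists_syzygy [IsAlgClosed k] (hdim : topologicalKrullDim X = 1) (hg : Curv2.genus k X = 1)
    {F : X.Modules} {R D : ℕ} (hR : 0 < R) (hRD : R < D) (hF : FlatMod.IsFinLocFreeOfRank R F)
    (hFss : SemistableBundle k X F R) (hFd : Curv2.deg k X F R = D) :
    ∃ M : X.Modules, FlatMod.IsFinLocFreeOfRank (D - R) M ∧ Curv2.deg k X M (D - R) = -(D : ℤ) ∧
      SemistableBundle k X M (D - R) ∧ (StableBundle k X F R → StableBundle k X M (D - R)) := by
  haveI := isNoetherian_of_proper (k := k) (X := X)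
  have hFc := isCoh_of_rank hF
  have h0 := h0_of_semistable (k := k) hdim hg hF hFss (by rw [hFd]; omega)
  obtain ⟨ev, hev⟩ := exists_eval (k := k) hdim hFc (D := D) (by omega)
  haveI : Epi ev := epi_of_sections (k := k) hdim hg hF hFss (by rw [hFd]; exact_mod_cast hRD)
    (isCoh_of_rank (H28RR.LazMuk.rank_freeMod (X := X) D)).1 ev hev.2
  have hS : (ShortComplex.mk (kernel.ι ev) ev (kernel.condition ev)).ShortExact :=
    { exact := ShortComplex.exact_kernel _ }
  have hD := H28RR.LazMuk.rank_freeMod (X := X) D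
  obtain ⟨m, hM⟩ := H25Par.exists_rank k hdim.le
    (H10Coh.isCoh_kernel ev (isCoh_of_rank hD) hFc.1)
    (H25Euler.isTorsionFree_of_mono (kernel.ι ev) (H25Par.isTorsionFree_of_locFree (locFree_of_rank hD)))
  obtain ⟨hm, hMd⟩ := deg_add_of_shortExact (k := k) hS hM hD hF
  obtain rfl : m = D - R := by omega
  simp only [deg_freeMod (k := k), hFd] at hMd
  have hcast : ((D - R : ℕ) : ℤ) = (D : ℤ) - R := by omega
  obtain ⟨G₁, g₁, l₁, hl₁, hg₁, hG₁, hmax, -⟩ := exists_maxSlope (k := k) hdim.le (by omega : 0 < D - R) hM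
  haveI := hl₁
  have hb := (kernel_slope_bound (k := k) hdim hg hR hF hFss hFd ev hev.1 hg₁ hG₁ l₁
    (fun G' g' l' h1 h2 h3 => hmax G' g' l' h1 h2 h3)).1
  have hss : SemistableBundle k X (kernel ev) (D - R) := fun G s l hl hs hG => by
    have h1 := hmax G s l hl hs hG
    rw [show Curv2.deg k X (kernel ev) (D - R) = -(D : ℤ) by omega, hcast]
    refine le_of_mul_le_mul_right ?_ (show (0 : ℤ) < g₁ by exact_mod_cast hg₁)
    have hn : (0 : ℤ) ≤ (D : ℤ) - R := by omega
    have c1 := mul_le_mul_of_nonneg_right h1 hn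
    have c2 := mul_le_mul_of_nonneg_right hb (Int.natCast_nonneg s)
    linarith
  refine ⟨kernel ev, hM, by omega, hss, fun hst G s l hl hs hsn hG => ?_⟩
  haveI := hl
  have h1 := hss G s l hl hs hG
  refine lt_of_le_of_ne h1 fun heq => ?_
  have hmaxG : ∀ (G' : X.Modules) (g' : ℕ) (l' : G' ⟶ kernel ev), Mono l' → 0 < g' →
      FlatMod.IsFinLocFreeOfRank g' G' →
      Curv2.deg k X G' g' * (s : ℤ) ≤ Curv2.deg k X G s * (g' : ℤ) := fun G' g' l' hl' hg' hG' => by
    have h2 := mul_le_mul_of_nonneg_right (hss G' g' l' hl' hg' hG') (Int.natCast_nonneg s)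
    refine le_of_mul_le_mul_right ?_ (show (0 : ℤ) < ((D - R : ℕ) : ℤ) by omega)
    have h3 := congrArg (· * (g' : ℤ)) heq
    linarith
  have h4 := (kernel_slope_bound (k := k) hdim hg hR hF hFss hFd ev hev.1 hs hG l hmaxG).2 hst (by
    rw [← hcast, heq, show Curv2.deg k X (kernel ev) (D - R) = -(D : ℤ) by omega])
  omega

end Groth.Agent.H29GenusOne
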