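import Groth.Agent.H24Hilb.HomSplit
import Groth.Agent.H10Coh.SheafHom.Adj
import Groth.Agent.H29Ref.DualStalk
import Groth.Agent.H28RR.LazMukEuler
import Groth.Agent.H29CurveDual.Canonical
import Groth.Agent.H29CurveDual.CanonAux

/-!
# Functionals on a sheaf of homomorphisms; splitting of extensions on curves of genus one
-/

set_option autoImplicit false
set_option linter.style.haveILetI false
set_option linter.unusedSectionVars false
set_option maxHeartbeats 1000000
set_option backward.isDefEq.respectTransparency false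
universe u

open CategoryTheory CategoryTheory.Limits AlgebraicGeometry Opposite TopologicalSpace

namespace Groth.Agent.H29GenusOne

open Groth.Agent.H10Coh.SheafHom Groth.Agent.H16Derived.KFlat.Stalk Groth.Agent.H29Ref Groth.Agent.H06Mod

variable {X : Scheme.{u}} {Q G : X.Modules}

/-- The family of maps of rank one of a functional and a section. -/
noncomputable def rankOneHom {U : X.Opens} (ξ : Γ(RefHull.dual Q, U)) (g : Γ(G, U)) :
    Γ(RefHull.homSh Q G, U) :=
  ⟨fun y => ((unitEquiv y.1).symm.toLinearMap.comp (ξ.1 y)).smulRight (G.presheaf.germ U y.1 y.2 g),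
    fun V i m x => ⟨V, x.2, 𝟙 V,
      (show Γ(X, V) from toLin ((RefHull.dual Q).presheaf.map i.op ξ) m) • G.presheaf.map i.op g, fun y => by
      show (unitEquiv y.1).symm (ξ.1 ⟨y.1, i.le y.2⟩ (Q.presheaf.germ V y.1 y.2 m)) •
        G.presheaf.germ U y.1 (i.le y.2) g = _
      rw [Mero.germ_smul, G.presheaf.germ_res_apply i y.1 y.2 g]
      refine congrArg (· • G.presheaf.germ U y.1 (i.le y.2) g) ((LinearEquiv.symm_apply_eq _).2 ?_)
      exact (germ_toLin ((RefHull.dual Q).presheaf.map i.op ξ) m y).symm.trans (germ_unit_eq_smul y.1 y.2 _)⟩⟩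

theorem rankOneHom_apply {U : X.Opens} (ξ : Γ(RefHull.dual Q, U)) (g : Γ(G, U)) (y : U) :
    (rankOneHom ξ g).1 y =
      ((unitEquiv y.1).symm.toLinearMap.comp (ξ.1 y)).smulRight (G.presheaf.germ U y.1 y.2 g) := rfl

/-- A functional on `Hom(Q, G)` vanishes if no nonzero map `G → Q` exists. -/
theorem eq_zero_of_hom_eq_zero (hQ : FlatMod.IsFinLocFree Q) (hG : ∀ ψ : G ⟶ Q, ψ = 0)
    (φ : RefHull.homSh Q G ⟶ Coh.structureModule X) : φ = 0 := by
  haveI := H28RR.LazMuk.isIso_bidualMap hQ
  let θ : tensor (RefHull.dual Q) G ⟶ Coh.structureModule X :=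
    desc (fun U ξ g => φ.app U (rankOneHom ξ g))
      (fun U ξ ξ' g => by
        rw [← map_add]
        refine congrArg _ (Subtype.ext (funext fun y => LinearMap.ext fun v => ?_))
        show (unitEquiv y.1).symm (ξ.1 y v + ξ'.1 y v) • G.presheaf.germ U y.1 y.2 g = _
        rw [map_add, add_smul]
        rfl)
      (fun U r ξ g => by
        refine Eq.trans ?_ (Scheme.Modules.Hom.app_smul φ r _)
        refine congrArg _ (Subtype.ext (funext fun y => LinearMap.ext fun v => ?_))
        show (unitEquiv y.1).symm (X.presheaf.germ U y.1 y.2 r • ξ.1 y v) • G.presheaf.germ U y.1 y.2 g = _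
        rw [map_smul, smul_eq_mul, mul_smul]
        rfl)
      (fun U ξ g g' => by
        rw [← map_add]
        refine congrArg _ (Subtype.ext (funext fun y => LinearMap.ext fun v => ?_))
        show (unitEquiv y.1).symm (ξ.1 y v) • G.presheaf.germ U y.1 y.2 (g + g') = _
        rw [map_add, smul_add]
        rfl)
      (fun U r ξ g => by
        refine Eq.trans ?_ (Scheme.Modules.Hom.app_smul φ r _)
        refine congrArg _ (Subtype.ext (funext fun y => LinearMap.ext fun v => ?_))
        show (unitEquiv y.1).symm (ξ.1 y v) • G.presheaf.germ U y.1 y.2 (r • g) = _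
        rw [Mero.germ_smul, smul_comm]
        rfl)
      (fun U V i ξ g => by
        refine Eq.trans ?_ (H11Tilde.app_map_apply φ i.le (rankOneHom ξ g))
        refine congrArg _ (Subtype.ext (funext fun y => ?_))
        show _ = ((unitEquiv y.1).symm.toLinearMap.comp (ξ.1 ⟨y.1, i.le y.2⟩)).smulRight
          (G.presheaf.germ U y.1 (i.le y.2) g)
        rw [← G.presheaf.germ_res_apply i y.1 y.2 g]
        rfl)
  have hθ : θ = 0 := by
    have h0 : curry θ = (0 : G ⟶ RefHull.ddual Q) := by
      have h := hG (curry θ ≫ inv (RefHull.bidualMap Q))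
      rw [← cancel_mono (inv (RefHull.bidualMap Q))]
      exact h.trans zero_comp.symm
    refine (homEquiv (RefHull.dual Q) G (Coh.structureModule X)).injective (h0.trans ?_)
    refine Scheme.Modules.hom_ext _ _ fun U => ConcreteCategory.hom_ext _ _ fun n => ?_
    refine Subtype.ext (funext fun x => LinearMap.ext fun v => ?_)
    show (0 : _) = RefHull.stalkMapₗ (0 : tensor (RefHull.dual Q) G ⟶ Coh.structureModule X) x.1
      ((pairLin (RefHull.dual Q) G x.1).flip (G.presheaf.germ U x.1 x.2 n) v)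
    generalize (pairLin (RefHull.dual Q) G x.1).flip (G.presheaf.germ U x.1 x.2 n) v = w
    obtain ⟨V, hV, m, rfl⟩ := TopCat.Presheaf.exists_germ_eq (tensor (RefHull.dual Q) G).presheaf w
    rw [RefHull.stalkMapₗ_germ]
    exact (map_zero _).symm
  have hrk : ∀ (U : X.Opens) (ξ : Γ(RefHull.dual Q, U)) (g : Γ(G, U)), φ.app U (rankOneHom ξ g) = 0 :=
    fun U ξ g => by
      have h1 : θ.app U (tensorSect U ξ g) = φ.app U (rankOneHom ξ g) := desc_tensorSect _ _ _ _ _ _ U ξ g
      rw [← h1, hθ]
      rfl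
  have hFP := H8Props.FinLocFree.isFP_of_isFinLocFree Q hQ
  have hst : ∀ x, stalkLin φ x = 0 := fun x => by
    obtain ⟨n, ⟨b⟩⟩ := H22Alg.KExists.stalk_free hQ x
    let e := LinearEquiv.ofBijective (RefHull.evalStalk Q G x) (evalStalk_bijective Q G hFP x)
    let Φ := (stalkLin φ x).comp e.symm.toLinearMap
    have key : ∀ (l : Module.Dual (X.presheaf.stalk x) (Q.presheaf.stalk x)) (v : G.presheaf.stalk x),
        Φ (l.smulRight v) = 0 := fun l v => by
      obtain ⟨U, hU, ξ, hξ⟩ := TopCat.Presheaf.exists_germ_eq (RefHull.dual Q).presheaf ((dualEquiv Q hFP x).symm l)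
      obtain ⟨V, hV, g, rfl⟩ := TopCat.Presheaf.exists_germ_eq G.presheaf v
      have hW : x ∈ U ⊓ V := ⟨hU, hV⟩
      rw [← (RefHull.dual Q).presheaf.germ_res_apply (homOfLE (inf_le_left : U ⊓ V ≤ U)) x hW] at hξ
      rw [← G.presheaf.germ_res_apply (homOfLE (inf_le_right : U ⊓ V ≤ V)) x hW]
      generalize (RefHull.dual Q).presheaf.map (homOfLE (inf_le_left : U ⊓ V ≤ U)).op ξ = ξ' at hξ
      generalize G.presheaf.map (homOfLE (inf_le_right : U ⊓ V ≤ V)).op g = g'
      have h1 : e.symm (l.smulRight (G.presheaf.germ (U ⊓ V) x hW g')) =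
          (RefHull.homSh Q G).presheaf.germ (U ⊓ V) x hW (rankOneHom ξ' g') := by
        rw [LinearEquiv.symm_apply_eq]
        show _ = RefHull.evalStalk Q G x _
        rw [RefHull.evalStalk_germ, rankOneHom_apply]
        refine congrArg (fun l' : Module.Dual (X.presheaf.stalk x) (Q.presheaf.stalk x) =>
          l'.smulRight (G.presheaf.germ (U ⊓ V) x hW g')) (LinearMap.ext fun w => ?_)
        rw [← (dualEquiv Q hFP x).apply_symm_apply l, ← hξ, dualEquiv_apply, RefHull.evalStalk_germ]
        rfl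
      show stalkLin φ x (e.symm _) = 0
      rw [h1, stalkLin_germ, hrk, map_zero]
    refine LinearMap.ext fun w => ?_
    obtain ⟨f, rfl⟩ := e.symm.surjective w
    show Φ f = 0
    have hf : f = ∑ i, (b.coord i).smulRight (f (b i)) := b.ext fun j => by
      rw [LinearMap.sum_apply]
      simp [Finsupp.single_apply, ite_smul]
    rw [hf, map_sum]
    exact Finset.sum_eq_zero fun i _ => key _ _
  refine Scheme.Modules.hom_ext _ _ fun U => ConcreteCategory.hom_ext _ _ fun s => ?_
  refine sec_ext _ fun y hy => ?_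
  exact ((stalkLin_germ φ y U hy s).symm.trans (LinearMap.congr_fun (hst y) _)).trans (map_zero _).symm

section curve

attribute [local instance 10000] H10Coh.hasSheafifyAb H10Coh.hasWeakSheafifyAb H10Coh.hasExtAb H10Coh.enoughInjAb
attribute [local instance] H29CurveDual.homModule

variable {k : Type u} [Field k] [X.Over (Spec (CommRingCat.of k))] [IsIntegral X]
  [IsProper (X ↘ Spec (CommRingCat.of k))] [Smooth (X ↘ Spec (CommRingCat.of k))]
  [GeometricallyConnected (X ↘ Spec (CommRingCat.of k))]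

/-- In genus one the canonical module is trivial. -/
theorem nonempty_omega_iso (hdim : topologicalKrullDim X = 1) (hg : Curv2.genus k X = 1) :
    Nonempty (Omega.sheaf (X ↘ Spec (CommRingCat.of k)) ≅ Coh.structureModule X) := by
  have h0 := H29CurveDual.finrank_h0_structure_smooth (k := k) (X := X)
  have hΩ := H29CurveDual.isInvertible_omega_curve (k := k) hdim
  have h1 := H29CurveDual.finrank_h1_structure (k := k) hdim
  haveI : Nontrivial (Coh.HH X (Omega.sheaf (X ↘ Spec (CommRingCat.of k))) 0) :=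
    Module.nontrivial_of_finrank_pos (R := k) (by omega)
  exact (H29RR.bounds_of_section (k := k) hdim.le hΩ inferInstance).2.2.2
    (by rw [H29CurveDual.deg_omega_of_h0 hdim h0, hg]; simp)

/-- In genus one an extension of `Q` by `G` without maps from `G` to `Q` splits. -/
theorem exists_section_of_hom_eq_zero (hdim : topologicalKrullDim X = 1) (hg : Curv2.genus k X = 1)
    {S : ShortComplex X.Modules} (hS : S.ShortExact) (h1 : Coh.IsCoh S.X₁) (h3 : FlatMod.IsFinLocFree S.X₃)
    (hG : ∀ ψ : S.X₁ ⟶ S.X₃, ψ = 0) : ∃ s : S.X₃ ⟶ S.X₂, s ≫ S.g = 𝟙 _ := by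
  haveI := H29RR.isNoetherian_of_proper (k := k) (X := X)
  haveI := H10Coh.SheafHom.hasSheafHom S.X₃
  have hE : Coh.IsCoh (RefHull.homSh S.X₃ S.X₁) :=
    isCoh_homSh _ _ (H16Derived.KFlat.Stalk.isCoh_of_isFinLocFree h3) h1
  obtain ⟨eΩ⟩ := nonempty_omega_iso (k := k) hdim hg
  haveI : Subsingleton (RefHull.homSh S.X₃ S.X₁ ⟶ Omega.sheaf (X ↘ Spec (CommRingCat.of k))) :=
    ⟨fun a b => by
      rw [← cancel_mono eΩ.hom, eq_zero_of_hom_eq_zero h3 hG (a ≫ eΩ.hom),
        eq_zero_of_hom_eq_zero h3 hG (b ≫ eΩ.hom)]⟩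
  haveI := H10Coh.finite_HH_proper k X _ hE 1
  haveI : Module.Finite k (Coh.HH X ((DCoh.sheafHom S.X₃).obj S.X₁) 1) :=
    Module.Finite.equiv (H29RR.hhIso (k := k) (homShIso S.X₃ S.X₁) 1).symm
  refine H24Hilb.exists_section_of_subsingleton_HH_one hS h3 ((Module.finrank_zero_iff (R := k)).1 ?_)
  rw [(H29RR.hhIso (k := k) (homShIso S.X₃ S.X₁) 1).finrank_eq, H29CurveDual.finrank_h1_eq hdim hE]
  exact Module.finrank_zero_of_subsingleton

end curve

end Groth.Agent.H29GenusOne
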