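import Groth.Agent.H17.PnExt.Abstract
import Groth.Agent.H29RR.Indecomposable
import Groth.Agent.H29GenusOne.HomDual

/-!
# Maps into free modules through a basis of their components
-/

set_option autoImplicit false
set_option linter.style.haveILetI false
set_option linter.unusedSectionVars false
set_option maxHeartbeats 1000000
universe u

open CategoryTheory CategoryTheory.Limits AlgebraicGeometry

namespace Groth.Agent.H29GenusOne

attribute [local instance 10000] H10Coh.hasSheafifyAb H10Coh.hasWeakSheafifyAb H10Coh.hasExtAb H10Coh.enoughInjAb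

variable {k : Type u} [Field k] {X : Scheme.{u}} [X.Over (Spec (CommRingCat.of k))]

/-- The projections of a free module. -/
noncomputable def prj (D : ℕ) (i : Fin D) : FlatMod.freeMod X D ⟶ Coh.structureModule X :=
  Sigma.desc fun j => if j = i then 𝟙 _ else 0

theorem ι_prj (D : ℕ) (j i : Fin D) :
    Sigma.ι (fun _ : Fin D => Coh.structureModule X) j ≫ prj D i = if j = i then 𝟙 _ else 0 :=
  Sigma.ι_desc _ _

theorem sum_prj (D : ℕ) :
    ∑ i, prj D i ≫ Sigma.ι (fun _ : Fin D => Coh.structureModule X) i = 𝟙 (FlatMod.freeMod X D) := by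
  refine Sigma.hom_ext _ _ fun j => ?_
  rw [Preadditive.comp_sum, Finset.sum_eq_single j]
  · rw [← Category.assoc, ι_prj, if_pos rfl, Category.id_comp]
    exact (Category.comp_id _).symm
  · intro i _ hij
    rw [← Category.assoc, ι_prj, if_neg (Ne.symm hij), zero_comp]
  · intro h; exact absurd (Finset.mem_univ j) h

variable (k) in
/-- A map into a free module factors through a split free submodule on a basis of its components. -/
theorem exists_factor_free {G : X.Modules} [Module.Finite k (G ⟶ Coh.structureModule X)] {D : ℕ}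
    (i : G ⟶ FlatMod.freeMod X D) :
    ∃ (w : ℕ) (e : G ⟶ FlatMod.freeMod X w) (σ : FlatMod.freeMod X w ⟶ FlatMod.freeMod X D)
      (τ : FlatMod.freeMod X D ⟶ FlatMod.freeMod X w),
      w ≤ Module.finrank k (G ⟶ Coh.structureModule X) ∧ σ ≫ τ = 𝟙 _ ∧ e ≫ σ = i := by
  let φ : Fin D → (G ⟶ Coh.structureModule X) := fun j => i ≫ prj D j
  let W : Submodule k (G ⟶ Coh.structureModule X) := Submodule.span k (Set.range φ)
  haveI : Module.Finite k W := Module.Finite.of_injective W.subtype Subtype.val_injective
  let w := Module.finrank k W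
  let b : Module.Basis (Fin w) k W := Module.finBasis k W
  let c : Fin D → Fin w → k := fun j l => b.repr ⟨φ j, Submodule.subset_span ⟨j, rfl⟩⟩ l
  have hφ : ∀ j, φ j = ∑ l, c j l • (b l : G ⟶ Coh.structureModule X) := fun j => by
    have h := congrArg Subtype.val (b.sum_repr ⟨φ j, Submodule.subset_span ⟨j, rfl⟩⟩)
    rw [AddSubmonoidClass.coe_finsetSum] at h
    exact h.symm
  choose a ha using fun l => (Submodule.mem_span_range_iff_exists_fun k).1 (b l).2
  have hac : ∀ m l, ∑ j, a m j * c j l = if m = l then 1 else 0 := fun m l => by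
    have hW : (∑ j, a m j • (⟨φ j, Submodule.subset_span ⟨j, rfl⟩⟩ : W)) = b m := Subtype.ext (by
      rw [AddSubmonoidClass.coe_finsetSum]
      exact ha m)
    have h := congrArg (fun v => b.repr v l) hW
    simp only [map_sum, map_smul, Finsupp.coe_finsetSum, Finset.sum_apply, Finsupp.smul_apply, smul_eq_mul,
      Module.Basis.repr_self, Finsupp.single_apply] at h
    exact h
  let ι := fun (n : ℕ) (j : Fin n) => Sigma.ι (fun _ : Fin n => Coh.structureModule X) j
  let e : G ⟶ FlatMod.freeMod X w := ∑ l, (b l : G ⟶ Coh.structureModule X) ≫ ι w l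
  let σ : FlatMod.freeMod X w ⟶ FlatMod.freeMod X D := Sigma.desc fun l => ∑ j, c j l • ι D j
  let τ : FlatMod.freeMod X D ⟶ FlatMod.freeMod X w := Sigma.desc fun j => ∑ m, a m j • ι w m
  refine ⟨w, e, σ, τ, Submodule.finrank_le W, ?_, ?_⟩
  · refine Sigma.hom_ext _ _ fun l => ?_
    rw [← Category.assoc, Sigma.ι_desc, Preadditive.sum_comp]
    simp only [Linear.smul_comp, ι, τ, Sigma.ι_desc, Finset.smul_sum, smul_smul]
    rw [Finset.sum_comm]
    simp only [← Finset.sum_smul, mul_comm (c _ l), hac, ite_smul, one_smul, zero_smul, Finset.sum_ite_eq',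
      Finset.mem_univ, if_true]
    exact (Category.comp_id _).symm
  · simp only [e, σ, Preadditive.sum_comp, Category.assoc, ι, Sigma.ι_desc, Preadditive.comp_sum, Linear.comp_smul]
    rw [Finset.sum_comm]
    simp only [← Linear.smul_comp, ← Preadditive.sum_comp, ← hφ]
    simp only [φ, Category.assoc, ← Preadditive.comp_sum, sum_prj, Category.comp_id]

variable [IsIntegral X] [IsProper (X ↘ Spec (CommRingCat.of k))] [Smooth (X ↘ Spec (CommRingCat.of k))]
  [GeometricallyConnected (X ↘ Spec (CommRingCat.of k))]

/-- In genus one the functionals of a coherent module have the dimension of its first cohomology. -/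
theorem finrank_hom_unit (hdim : topologicalKrullDim X = 1) (hg : Curv2.genus k X = 1) {E : X.Modules}
    (hE : Coh.IsCoh E) :
    Module.Finite k (E ⟶ Coh.structureModule X) ∧
      Module.finrank k (E ⟶ Coh.structureModule X) = Module.finrank k (Coh.HH X E 1) := by
  haveI := H29RR.isNoetherian_of_proper (k := k) (X := X)
  haveI := H10Coh.finite_HH_proper k X E hE 1
  obtain ⟨t, ht⟩ := H29CurveDual.exists_dual (k := k) X hdim
  obtain ⟨eΩ⟩ := nonempty_omega_iso (k := k) hdim hg
  let L := (Linear.rightComp k E eΩ.inv)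
  have hL : Function.Bijective L := ⟨fun a b h => (cancel_mono eΩ.inv).1 h, fun v => ⟨v ≫ eΩ.hom, by
    show (v ≫ eΩ.hom) ≫ eΩ.inv = v
    rw [Category.assoc, Iso.hom_inv_id, Category.comp_id]⟩⟩
  let eE := (LinearEquiv.ofBijective L hL).trans
    (LinearEquiv.ofBijective _ (H17.PnExt.pair_bijective (ht E hE)))
  exact ⟨Module.Finite.equiv eE.symm, eE.finrank_eq.trans Subspace.dual_finrank_eq⟩

end Groth.Agent.H29GenusOne
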