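import Groth.Agent.H29GenusOne.RankTwo
import Groth.Agent.H10Coh.HHSeq

/-!
# Extensions of the structure sheaf by itself on a curve of genus one
-/

set_option autoImplicit false
set_option linter.style.haveILetI false
set_option linter.unusedSectionVars false
set_option maxHeartbeats 1000000

universe u

open CategoryTheory CategoryTheory.Limits AlgebraicGeometry Opposite TopologicalSpace

namespace Groth.Agent.H29GenusOne

open Groth.Agent.H29RR Groth.Agent.H29CurveDual

attribute [local instance 10000] H10Coh.hasSheafifyAb H10Coh.hasWeakSheafifyAb H10Coh.hasExtAb H10Coh.enoughInjAb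

variable {k : Type u} [Field k] {X : Scheme.{u}}

local notation "O" => Coh.structureModule X

/-- A morphism out of the structure sheaf is given by the image of one. -/
theorem hom_eq_homOfGlobal {M : X.Modules} (u : O ⟶ M) :
    u = H11Tilde.homOfGlobal M (u.app ⊤ (1 : Γ(X, ⊤))) := by
  refine Scheme.Modules.hom_ext _ _ fun V => ?_
  ext r
  rw [H11Tilde.homOfGlobal_app, ← H11Tilde.app_map_apply, ← Scheme.Modules.Hom.app_smul]
  refine congrArg (u.app V) ?_
  show r = (show Γ(X, V) from r) * X.presheaf.map (homOfLE (le_top : V ≤ ⊤)).op (1 : Γ(X, ⊤))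
  rw [map_one, mul_one]

theorem hom_ext_of_one {M : X.Modules} {u v : O ⟶ M} (h : u.app ⊤ (1 : Γ(X, ⊤)) = v.app ⊤ (1 : Γ(X, ⊤))) :
    u = v := by
  rw [hom_eq_homOfGlobal u, hom_eq_homOfGlobal v, h]

theorem homOfGlobal_one {M : X.Modules} (g : Γ(M, ⊤)) :
    (H11Tilde.homOfGlobal M g).app ⊤ (1 : Γ(X, ⊤)) = g := by
  refine (H11Tilde.homOfGlobal_app M g ⊤ (1 : Γ(X, ⊤))).trans ?_
  rw [H10Coh.mres_self]
  exact one_smul _ g

/-- A surjection onto the structure sheaf splits if the connecting map kills one. -/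
theorem exists_section (K : Type u) [Field K] [X.Over (Spec (CommRingCat.of K))] {A E : X.Modules} (a : A ⟶ E) (b : E ⟶ O) (w : a ≫ b = 0)
    (h : (ShortComplex.mk a b w).ShortExact)
    (h0 : LeadFF.dl h 0 ((sec O).symm (1 : Γ(X, ⊤))) = 0) : ∃ t : O ⟶ E, t ≫ b = 𝟙 O := by
  obtain ⟨z, hz⟩ := LeadFF.exists_Hm_g h 0 _ h0
  refine ⟨H11Tilde.homOfGlobal E (sec E z), hom_ext_of_one ?_⟩
  show b.app ⊤ ((H11Tilde.homOfGlobal E (sec E z)).app ⊤ (1 : Γ(X, ⊤))) = (1 : Γ(X, ⊤))
  rw [homOfGlobal_one, ← sec_natural (k := K)]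
  exact ((sec O).symm.injective (((sec O).symm_apply_apply _).trans hz))

variable [X.Over (Spec (CommRingCat.of k))] [IsProper (X ↘ Spec (CommRingCat.of k))] [IsIntegral X]

/-- A nonzero endomorphism of the structure sheaf is invertible when the constants are the base field. -/
theorem isIso_of_ne_zero (h00 : Module.finrank k (Coh.HH X O 0) = 1) {c : O ⟶ O} (hc : c ≠ 0) : IsIso c := by
  let φ : k →+* Γ(X, ⊤) := H10Coh.globA (A := k) (X := X)
  haveI : Nonempty (⊤ : X.Opens) := ⟨⟨genericPoint X, trivial⟩⟩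
  haveI : Nontrivial Γ(X, ⊤) := X.component_nontrivial ⊤
  let x₀ : Coh.HH X O 0 := (sec O).symm (1 : Γ(X, ⊤))
  have hx₀ : x₀ ≠ 0 := fun h => one_ne_zero (α := Γ(X, ⊤)) ((sec O).symm.injective (h.trans (map_zero _).symm))
  obtain ⟨a, ha⟩ := exists_smul_eq_of_finrank_eq_one h00 hx₀ ((sec O).symm (c.app ⊤ (1 : Γ(X, ⊤))))
  have h1 : c.app ⊤ (1 : Γ(X, ⊤)) = φ a := by
    have h := congrArg (sec O) ha
    rw [sec_smul, AddEquiv.apply_symm_apply, AddEquiv.apply_symm_apply] at h
    rw [← h]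
    exact mul_one (φ a)
  have ha0 : a ≠ 0 := fun h => hc (hom_ext_of_one (by rw [h1, h, map_zero]; rfl))
  refine ⟨H11Tilde.homOfGlobal O (φ a⁻¹), hom_ext_of_one ?_, hom_ext_of_one ?_⟩
  · show (H11Tilde.homOfGlobal O (φ a⁻¹)).app ⊤ (c.app ⊤ (1 : Γ(X, ⊤))) = (1 : Γ(X, ⊤))
    rw [h1, H11Tilde.homOfGlobal_app, H10Coh.mres_self]
    show φ a * φ a⁻¹ = 1
    rw [← map_mul, mul_inv_cancel₀ ha0, map_one]
  · show c.app ⊤ ((H11Tilde.homOfGlobal O (φ a⁻¹)).app ⊤ (1 : Γ(X, ⊤))) = (1 : Γ(X, ⊤))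
    rw [homOfGlobal_one, hom_eq_homOfGlobal c, H11Tilde.homOfGlobal_app, H10Coh.mres_self, h1]
    show φ a⁻¹ * φ a = 1
    rw [← map_mul, inv_mul_cancel₀ ha0, map_one]

/-- In genus one two nonsplit extensions of the structure sheaf by itself have isomorphic middle terms. -/
theorem nonempty_iso_selfExt (hg : Curv2.genus k X = 1) (h00 : Module.finrank k (Coh.HH X O 0) = 1)
    {E E' : X.Modules} (i : O ⟶ E) (g : E ⟶ O) (w : i ≫ g = 0) (hS : (ShortComplex.mk i g w).ShortExact)
    (hns : ∀ t : O ⟶ E, t ≫ g ≠ 𝟙 O)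
    (i' : O ⟶ E') (g' : E' ⟶ O) (w' : i' ≫ g' = 0) (hS' : (ShortComplex.mk i' g' w').ShortExact)
    (hns' : ∀ t : O ⟶ E', t ≫ g' ≠ 𝟙 O) : Nonempty (E' ≅ E) := by
  let one : Coh.HH X O 0 := (sec O).symm (1 : Γ(X, ⊤))
  have hd : LeadFF.dl hS 0 one ≠ 0 := fun h => by
    obtain ⟨t, ht⟩ := exists_section k i g w hS h
    exact hns t ht
  -- the map induced by `i` on first cohomology is zero
  have hi1 : ∀ x : Coh.HH X O 1, LeadFF.Hm i 1 x = 0 := fun x => by
    obtain ⟨c, rfl⟩ := exists_smul_eq_of_finrank_eq_one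
      (show Module.finrank k (Coh.HH X O 1) = 1 from hg) hd x
    rw [show c • LeadFF.dl hS 0 one = LeadFF.dl hS 0 (c • one) from
      ((H10Coh.HHSeq.dlₗ (A := k) hS 0).map_smul c one).symm]
    exact LeadFF.Hm_dl hS 0 _
  haveI := hS'.mono_f
  haveI := hS'.epi_g
  let b : pushout i' i ⟶ O := pushout.desc g' 0 (by rw [w', comp_zero])
  have wP : pushout.inr i' i ≫ b = 0 := pushout.inr_desc _ _ _
  haveI : Mono (pushout.inr i' i) := inferInstance
  have hP : (ShortComplex.mk (pushout.inr i' i) b wP).ShortExact := by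
    haveI : Epi b := by
      haveI : Epi (pushout.inl i' i ≫ b) := by rw [pushout.inl_desc]; exact hS'.epi_g
      exact epi_of_epi (pushout.inl i' i) b
    refine { exact := ShortComplex.exact_of_g_is_cokernel _ (CokernelCofork.IsColimit.ofπ _ _
      (fun {T} m hm => hS'.gIsCokernel.desc (CokernelCofork.ofπ (pushout.inl i' i ≫ m)
        (show i' ≫ pushout.inl i' i ≫ m = 0 by rw [pushout.condition_assoc, hm, comp_zero])))
      (fun {T} m hm => pushout.hom_ext ?_ ?_) (fun {T} m hm n hn => ?_)) }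
    · rw [pushout.inl_desc_assoc]
      exact hS'.gIsCokernel.fac (CokernelCofork.ofπ (pushout.inl i' i ≫ m) _) WalkingParallelPair.one
    · rw [pushout.inr_desc_assoc, zero_comp]
      exact hm.symm
    · haveI := hS'.epi_g
      rw [← cancel_epi g']
      refine Eq.trans ?_ (hS'.gIsCokernel.fac (CokernelCofork.ofπ (pushout.inl i' i ≫ m) _)
        WalkingParallelPair.one).symm
      show g' ≫ n = pushout.inl i' i ≫ m
      rw [← hn, pushout.inl_desc_assoc]
  let f : ShortComplex.mk i' g' w' ⟶ ShortComplex.mk (pushout.inr i' i) b wP :=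
    ShortComplex.homMk i (pushout.inl i' i) (𝟙 O) pushout.condition.symm
      ((pushout.inl_desc _ _ _).trans (Category.comp_id _).symm)
  have hP0 : LeadFF.dl hP 0 one = 0 := by
    have h := LeadFF.dl_natural hS' hP f 0 one
    rw [show LeadFF.Hm f.τ₁ (0 + 1) (LeadFF.dl hS' 0 one) = 0 from hi1 _] at h
    rw [← h]
    exact congrArg _ (LeadFF.Hm_id O 0 one).symm
  obtain ⟨t, ht⟩ := exists_section k _ b wP hP hP0
  haveI := hP.mono_f
  let r : pushout i' i ⟶ E := hP.fIsKernel.lift (KernelFork.ofι (𝟙 (pushout i' i) - b ≫ t)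
    (by rw [Preadditive.sub_comp, Category.id_comp, Category.assoc, ht, Category.comp_id, sub_self]))
  have hr : r ≫ pushout.inr i' i = 𝟙 (pushout i' i) - b ≫ t :=
    hP.fIsKernel.fac _ WalkingParallelPair.zero
  have hri : pushout.inr i' i ≫ r = 𝟙 E := by
    rw [← cancel_mono (pushout.inr i' i), Category.assoc, hr, Preadditive.comp_sub, Category.comp_id,
      reassoc_of% wP, zero_comp, sub_zero, Category.id_comp]
  let φ : E' ⟶ E := pushout.inl i' i ≫ r
  have hφ : i' ≫ φ = i := by rw [pushout.condition_assoc, hri, Category.comp_id]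
  have hd0 : i' ≫ φ ≫ g = 0 := by rw [reassoc_of% hφ, w]
  let c : O ⟶ O := hS'.gIsCokernel.desc (CokernelCofork.ofπ (φ ≫ g) hd0)
  have hc : g' ≫ c = φ ≫ g := hS'.gIsCokernel.fac (CokernelCofork.ofπ (φ ≫ g) hd0) WalkingParallelPair.one
  have hc0 : c ≠ 0 := fun h => by
    rw [h, comp_zero] at hc
    haveI := hS.mono_f
    let ψ : E' ⟶ O := hS.fIsKernel.lift (KernelFork.ofι φ hc.symm)
    have hψ : ψ ≫ i = φ := hS.fIsKernel.fac _ WalkingParallelPair.zero
    have hret : i' ≫ ψ = 𝟙 O := by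
      rw [← cancel_mono i, Category.assoc, hψ, hφ, Category.id_comp]
    let σ := ShortComplex.Splitting.ofExactOfRetraction (ShortComplex.mk i' g' w') hS'.exact ψ hret inferInstance
    exact hns' σ.s σ.s_g
  haveI := isIso_of_ne_zero (k := k) h00 hc0
  let F : ShortComplex.mk i' g' w' ⟶ ShortComplex.mk i g w :=
    ShortComplex.homMk (𝟙 O) φ c ((Category.id_comp _).trans hφ.symm) hc.symm
  haveI : IsIso φ := ShortComplex.isIso₂_of_shortExact_of_isIso₁₃' F hS' hS
    (by show IsIso (𝟙 O); infer_instance) (by show IsIso c; infer_instance)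
  exact ⟨asIso φ⟩

end Groth.Agent.H29GenusOne
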