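import Groth.Agent.H29GenusOne.HomDual
import Groth.Agent.H29RR.RankTwo
import Groth.Agent.H29RR.SubBundle

/-!
# Indecomposable bundles on curves of genus one are semistable
-/

set_option autoImplicit false
set_option linter.style.haveILetI false
set_option linter.unusedSectionVars false
set_option maxHeartbeats 1000000
universe u

open CategoryTheory CategoryTheory.Limits AlgebraicGeometry

namespace Groth.Agent.H29GenusOne

open Groth.Agent.H29RR

attribute [local instance 10000] H10Coh.hasSheafifyAb H10Coh.hasWeakSheafifyAb H10Coh.hasExtAb H10Coh.enoughInjAb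

variable {k : Type u} [Field k] {X : Scheme.{u}} [X.Over (Spec (CommRingCat.of k))]
  [IsProper (X ↘ Spec (CommRingCat.of k))] [IsIntegral X] [Smooth (X ↘ Spec (CommRingCat.of k))]

/-- The subbundle of maximal slope and rank maps to zero in its quotient. -/
theorem hom_quot_eq_zero (hdim : topologicalKrullDim X ≤ 1) {S : ShortComplex X.Modules} (hS : S.ShortExact)
    {a c n : ℕ} (ha : 0 < a) (hA : FlatMod.IsFinLocFreeOfRank a S.X₁) (hE : FlatMod.IsFinLocFreeOfRank n S.X₂)
    (hQ : FlatMod.IsFinLocFreeOfRank c S.X₃)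
    (hmax : ∀ (G : X.Modules) (r' : ℕ) (j : G ⟶ S.X₂), Mono j → 0 < r' → FlatMod.IsFinLocFreeOfRank r' G →
      Curv2.deg k X G r' * (a : ℤ) ≤ Curv2.deg k X S.X₁ a * (r' : ℤ))
    (hrk : ∀ (G : X.Modules) (r' : ℕ) (j : G ⟶ S.X₂), Mono j → 0 < r' → FlatMod.IsFinLocFreeOfRank r' G →
      Curv2.deg k X G r' * (a : ℤ) = Curv2.deg k X S.X₁ a * (r' : ℤ) → r' ≤ a)
    (ψ : S.X₁ ⟶ S.X₃) : ψ = 0 := by
  by_contra hne
  haveI := hS.mono_f
  obtain ⟨b, s, hK, hI, hbs, -, hs0, -, hd⟩ := exists_image_data (k := k) hdim hA hQ ψ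
  have hs := hs0 hne
  have hKd : Curv2.deg k X (kernel ψ) b * (a : ℤ) ≤ Curv2.deg k X S.X₁ a * (b : ℤ) := by
    rcases Nat.eq_zero_or_pos b with hb | hb
    · subst hb
      rw [deg_eq_zero_of_rank_zero (k := k) hK]
      simp
    · exact hmax _ b (kernel.ι ψ ≫ S.f) inferInstance hb hK
  obtain ⟨P, l, hl, hP, hPd⟩ := exists_preimage (k := k) hdim hS hA hE hI (Abelian.image.ι ψ)
  have h1 := hmax P (a + s) l hl (by omega) hP
  have h2 := hrk P (a + s) l hl (by omega) hP
  rw [hPd] at h1 h2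
  have hab : (a : ℤ) = (b : ℤ) + s := by exact_mod_cast hbs.symm
  push_cast at h1 h2
  have e1 := congrArg (· * (a : ℤ)) hd
  have e2 := congrArg (Curv2.deg k X S.X₁ a * ·) hab
  simp only [add_mul, mul_add] at e1 e2
  have : a + s ≤ a := h2 (le_antisymm h1 (by rw [add_mul, mul_add]; linarith))
  omega

/-- An indecomposable bundle on a curve of genus one is semistable. -/
theorem semistable_of_indecomposable [GeometricallyConnected (X ↘ Spec (CommRingCat.of k))]
    (hdim : topologicalKrullDim X = 1) (hg : Curv2.genus k X = 1) {E : X.Modules} {r : ℕ} (hr : 0 < r)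
    (hE : FlatMod.IsFinLocFreeOfRank r E)
    (hind : ∀ (E₁ E₂ : X.Modules), Nonempty (E ≅ E₁ ⊞ E₂) → IsZero E₁ ∨ IsZero E₂) :
    SemistableBundle k X E r := by
  haveI := isNoetherian_of_proper (k := k) (X := X)
  obtain ⟨E₁, r₁, i, hi, hr₁, hE₁, hmax, hrk⟩ := exists_maxSlope (k := k) hdim.le hr hE
  haveI := hi
  have hS : (ShortComplex.mk i (cokernel.π i) (cokernel.condition i)).ShortExact :=
    { exact := ShortComplex.exact_cokernel _ }
  obtain ⟨c, hc⟩ := exists_rank_quotient_of_max (k := k) hdim.le hS hE₁ hE fun G l hl hG => by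
    have := hmax G r₁ l hl hr₁ hG
    exact le_of_mul_le_mul_right this (by exact_mod_cast hr₁)
  obtain ⟨hrc, hd⟩ := deg_add_of_shortExact (k := k) hS hE₁ hE hc
  rcases Nat.eq_zero_or_pos c with hc0 | hc0
  · intro G s l hl hs hG
    have h1 := hmax G s l hl hs hG
    have hc1 : Curv2.deg k X (cokernel i) c = 0 := by
      subst hc0
      exact deg_eq_zero_of_rank_zero hc
    have h3 : Curv2.deg k X E₁ r₁ = Curv2.deg k X E r := by
      simp only [hc1, add_zero] at hd
      exact hd.symm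
    obtain rfl : r₁ = r := by omega
    rw [← h3]
    exact h1
  · exfalso
    obtain ⟨σ, hσ⟩ := exists_section_of_hom_eq_zero (k := k) hdim hg hS (isCoh_of_rank hE₁) (locFree_of_rank hc)
      (hom_quot_eq_zero (k := k) hdim.le hS hr₁ hE₁ hE hc hmax hrk)
    obtain ⟨e⟩ := nonempty_iso_of_split i (IsSplitEpi.mk' ⟨σ, hσ⟩)
    exact (hind _ _ ⟨e⟩).elim (not_isZero_of_rank (k := k) hE₁ hr₁) (not_isZero_of_rank (k := k) hc hc0)

end Groth.Agent.H29GenusOne
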