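import Groth.Agent.H29GenusOne.HomBasis
import Groth.Agent.H29RR.SubBundle
import Groth.Agent.H29RR.PointAux
import Groth.Agent.H29RR.Twist
import Groth.Agent.H22Alg.DetDeg
import Groth.Agent.H17.SuppTensor

/-!
# Vanishing for semistable bundles on curves of genus one
-/

set_option autoImplicit false
set_option linter.style.haveILetI false
set_option linter.unusedSectionVars false
set_option maxHeartbeats 1000000
universe u

open CategoryTheory CategoryTheory.Limits AlgebraicGeometry TopologicalSpace

namespace Groth.Agent.H29GenusOne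

open Groth.Agent.H29RR

attribute [local instance 10000] H10Coh.hasSheafifyAb H10Coh.hasWeakSheafifyAb H10Coh.hasExtAb H10Coh.enoughInjAb
attribute [local instance] Curv2.resAlgebra

variable {k : Type u} [Field k] {X : Scheme.{u}} [X.Over (Spec (CommRingCat.of k))]
  [IsProper (X ↘ Spec (CommRingCat.of k))] [IsIntegral X]

/-- The structure sheaf of a closed point is nonzero at the point. -/
theorem mem_support_quotMod_pt {x : X} (hx : IsClosed ({x} : Set X))
    (h1 : Module.finrank k (X.residueField x) = 1) : x ∈ CohB1.support (ClSub.quotMod (ptIdeal x)) := by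
  intro hs
  haveI := isNoetherian_of_proper (k := k) (X := X)
  have hz : IsZero (ClSub.quotMod (ptIdeal x)) := by
    refine H25Par.isZero_of_stalks _ fun y => ?_
    by_contra hne
    have hmem := LeadProper.support_subset_range (F := ClSub.quotMod (ptIdeal x))
      (@H10Coh.isQuasicoherent_pushforward _ _ (ptIdeal x).subschemeι inferInstance inferInstance _ H10Coh.isQuasicoherent_unit)
      (ptIdeal x).subschemeι (Iso.refl _) hne
    rw [range_subscheme_pt hx] at hmem
    exact hne ((Set.mem_singleton_iff.1 hmem) ▸ hs)
  haveI := H10Coh.ExtPowFree.subsingleton_HH_of_isZero hz 0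
  have := finrank_h0_quotMod_pt (k := k) hx
  rw [Module.finrank_zero_of_subsingleton, h1] at this
  omega

variable [Smooth (X ↘ Spec (CommRingCat.of k))]

include k in
/-- A semistable bundle of positive degree has no functionals. -/
theorem hom_unit_eq_zero (hdim : topologicalKrullDim X ≤ 1) {E : X.Modules} {n : ℕ}
    (hE : FlatMod.IsFinLocFreeOfRank n E) (hss : SemistableBundle k X E n) (hd : 0 < Curv2.deg k X E n)
    (φ : E ⟶ Coh.structureModule X) : φ = 0 := by
  by_contra hne
  haveI := isNoetherian_of_proper (k := k) (X := X)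
  have hO := rank_one_of_isInvertible (H11Ample.isInvertible_structureModule (X := X))
  obtain ⟨a, r, -, hI, hr, hr0, hdeg, hge⟩ := semistable_image_ge (k := k) hdim hE hO hss φ
  have hr1 := hr0 hne
  have hle := H25Par.rank_le_of_mono (genericPoint X) hI hO (Abelian.image.ι φ)
  obtain rfl : r = 1 := by omega
  have he := H25Par.euler_le_of_mono (k := k) hdim hI hO (Abelian.image.ι φ)
  have h0 : Curv2.deg k X (Abelian.image φ) 1 ≤ 0 := by
    simp only [Curv2.deg]
    push_cast
    omega
  push_cast at hge
  have hn : (0 : ℤ) < n := by omega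
  nlinarith

variable [GeometricallyConnected (X ↘ Spec (CommRingCat.of k))]

theorem euler_unit (hdim : topologicalKrullDim X = 1) (hg : Curv2.genus k X = 1) :
    Curv2.euler k X (Coh.structureModule X) = 0 := by
  rw [euler_eq_sub (k := k) hdim.le, H29CurveDual.finrank_h0_structure_smooth (k := k) (X := X),
    show Module.finrank k (Coh.HH X (Coh.structureModule X) 1) = Curv2.genus k X from rfl, hg]
  simp

/-- Riemann–Roch in genus one. -/
theorem euler_eq_deg (hdim : topologicalKrullDim X = 1) (hg : Curv2.genus k X = 1) (E : X.Modules) (n : ℕ) :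
    (Module.finrank k (Coh.HH X E 0) : ℤ) - Module.finrank k (Coh.HH X E 1) = Curv2.deg k X E n := by
  rw [← euler_eq_sub (k := k) hdim.le, Curv2.deg, euler_unit (k := k) hdim hg]
  simp

/-- Without functionals there is no first cohomology. -/
theorem h1_eq_zero_of_hom (hdim : topologicalKrullDim X = 1) (hg : Curv2.genus k X = 1) {E : X.Modules}
    (hE : Coh.IsCoh E) (h : ∀ φ : E ⟶ Coh.structureModule X, φ = 0) :
    Module.finrank k (Coh.HH X E 1) = 0 := by
  haveI : Subsingleton (E ⟶ Coh.structureModule X) := ⟨fun a b => (h a).trans (h b).symm⟩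
  rw [← (finrank_hom_unit (k := k) hdim hg hE).2]
  exact Module.finrank_zero_of_subsingleton

/-- The sections of a semistable bundle of positive degree. -/
theorem h0_of_semistable (hdim : topologicalKrullDim X = 1) (hg : Curv2.genus k X = 1) {E : X.Modules} {n : ℕ}
    (hE : FlatMod.IsFinLocFreeOfRank n E) (hss : SemistableBundle k X E n) (hd : 0 < Curv2.deg k X E n) :
    (Module.finrank k (Coh.HH X E 0) : ℤ) = Curv2.deg k X E n := by
  haveI := isNoetherian_of_proper (k := k) (X := X)
  have h1 := h1_eq_zero_of_hom (k := k) hdim hg (isCoh_of_rank hE) (hom_unit_eq_zero (k := k) hdim.le hE hss hd)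
  have := euler_eq_deg (k := k) hdim hg E n
  omega

theorem deg_freeMod (D : ℕ) : Curv2.deg k X (FlatMod.freeMod X D) D = 0 := by
  simp [Curv2.deg, H22Alg.DetDeg.euler_freeMod]

end Groth.Agent.H29GenusOne
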